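import Cfsg.Agent.Lib.ToddCox.Glue
set_option autoImplicit false
set_option maxRecDepth 100000
namespace Cfsg.Agent.Lib.ToddCox.O73C3
def E_0 : ℕ := 0x51000001400001440000050000050c00001400001430000050000050400001400001410000050000050000001400001400000050000041000001000001040000040000040c00001000001030000040000040000001000001000000040000031000000c00000c40000030000030c00000c00000c30000030000030800000c00000c20000030000021000000800000840000020000020800000800000820000020000020400000800000810000020000010800000400000420000010000010400000400000410000010000010000000400000400000010000000c00000000000030000000000000800000000000020000000000000400000000000010000000000000000000000000000000000000040800001400001420000040000030400001000001010000030000020000000c00000c00000020000010c0000080000083000001000000100000040000044000000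
end Cfsg.Agent.Lib.ToddCox.O73C3
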